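import Mathlib

/-!
Transfer facts for simple groups with abelian Sylow 2-subgroups, and the absence of central 2-extensions
over a group whose Sylow 2-subgroup has an abelian full preimage.
-/

set_option autoImplicit false
set_option linter.style.haveILetI false

namespace Cfsg.Agent.JankoRee

variable {G : Type*} [Group G] [Finite G]

omit [Finite G] in
/-- A 2-element normalising a Sylow 2-subgroup lies in it. -/
theorem mem_sylow_of_normalizes (S : Sylow 2 G) {x : G}
    (hx : x ∈ Subgroup.normalizer ((S : Subgroup G) : Set G)) {k : ℕ} (hk : x ^ (2 ^ k) = 1) :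
    x ∈ (S : Subgroup G) := by
  haveI : Fact (Nat.Prime 2) := ⟨Nat.prime_two⟩
  have hz : IsPGroup 2 (Subgroup.zpowers x) := by
    refine IsPGroup.iff_orderOf.2 fun y => ?_
    obtain ⟨m, hm⟩ := y.2
    have h1 : (y : G) ^ (2 ^ k) = 1 := by
      rw [← hm]
      show (x ^ m) ^ (2 ^ k) = 1
      rw [← zpow_natCast, ← zpow_mul, mul_comm, zpow_mul, zpow_natCast, hk, one_zpow]
    rw [← Subgroup.orderOf_coe]
    obtain ⟨j, -, hj⟩ := (Nat.dvd_prime_pow Nat.prime_two).1 (orderOf_dvd_of_pow_eq_one h1)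
    exact ⟨j, hj⟩
  have h := hz.to_sup_of_normal_right' S.isPGroup' (Subgroup.zpowers_le.2 hx)
  rw [← S.is_maximal' h le_sup_right]
  exact Subgroup.mem_sup_left (Subgroup.mem_zpowers x)

/-- An element normalising an abelian Sylow 2-subgroup whose square centralises it centralises it. -/
theorem centralizes_of_sq (S : Sylow 2 G) (hS : IsMulCommutative (S : Subgroup G)) {y : G}
    (hy : y ∈ Subgroup.normalizer ((S : Subgroup G) : Set G))
    (h2 : y * y ∈ Subgroup.centralizer ((S : Subgroup G) : Set G)) :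
    y ∈ Subgroup.centralizer ((S : Subgroup G) : Set G) := by
  obtain ⟨a, m, hm, he⟩ := Nat.exists_eq_two_pow_mul_odd (orderOf_pos y).ne'
  have hmS : y ^ m ∈ (S : Subgroup G) := mem_sylow_of_normalizes S (pow_mem hy m) (k := a)
    (by rw [← pow_mul, mul_comm, ← he, pow_orderOf_eq_one])
  obtain ⟨j, hj⟩ := hm
  have hc : y ^ m ∈ Subgroup.centralizer ((S : Subgroup G) : Set G) := by
    intro z hz
    exact congrArg Subtype.val (hS.is_comm.comm (⟨z, hz⟩ : (S : Subgroup G)) ⟨_, hmS⟩)
  rw [hj, pow_succ, pow_mul, pow_two] at hc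
  have := Subgroup.mul_mem _ (Subgroup.inv_mem _ (pow_mem h2 j)) hc
  rwa [inv_mul_cancel_left] at this

variable [IsSimpleGroup G]

theorem normalizer_not_le_centralizer (hna : ¬ IsMulCommutative G) (S : Sylow 2 G) (hS1 : (S : Subgroup G) ≠ ⊥) :
    ¬ Subgroup.normalizer ((S : Subgroup G) : Set G) ≤ Subgroup.centralizer ((S : Subgroup G) : Set G) := by
  intro h
  haveI : Fact (Nat.Prime 2) := ⟨Nat.prime_two⟩
  have hc := MonoidHom.ker_transferSylow_isComplement' S h
  haveI : IsMulCommutative (S : Subgroup G) :=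
    ⟨⟨fun a b => Subtype.ext (h (Subgroup.le_normalizer b.2) a a.2)⟩⟩
  rcases (MonoidHom.normal_ker (MonoidHom.transferSylow S h)).eq_bot_or_eq_top with hb | ht
  · rw [hb] at hc
    have htop : (S : Subgroup G) = ⊤ := Subgroup.isComplement'_bot_left.1 hc
    refine hna ⟨⟨fun a b => ?_⟩⟩
    exact h (Subgroup.le_normalizer (htop ▸ Subgroup.mem_top b)) a (htop ▸ Subgroup.mem_top a)
  · rw [ht] at hc
    exact hS1 (Subgroup.isComplement'_top_left.1 hc)

/-- The normaliser of an abelian Sylow 2-subgroup of a simple group fixes none of its involutions. -/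
theorem exists_normalizer_move (hna : ¬ IsMulCommutative G) (S : Sylow 2 G)
    (hS : IsMulCommutative (S : Subgroup G)) {t : G} (ht : t ∈ (S : Subgroup G)) (ht2 : orderOf t = 2) :
    ∃ y ∈ Subgroup.normalizer ((S : Subgroup G) : Set G), y * t * y⁻¹ ≠ t := by
  by_contra hcon
  push Not at hcon
  haveI : Fact (Nat.Prime 2) := ⟨Nat.prime_two⟩
  haveI := hS
  have key : ∀ (k : ℕ) (g₀ : G), g₀⁻¹ * t ^ k * g₀ ∈ (S : Subgroup G) → g₀⁻¹ * t ^ k * g₀ = t ^ k := by
    intro k g₀ hk
    obtain ⟨n, hn, hn'⟩ := S.conj_eq_normalizer_conj_of_mem (t ^ k) g₀ (pow_mem ht k) hk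
    rw [hn']
    have h1 := hcon n⁻¹ (Subgroup.inv_mem _ hn)
    rw [inv_inv] at h1
    calc n⁻¹ * t ^ k * n = (n⁻¹ * t * n) ^ k := by
          conv_rhs => rw [show n⁻¹ * t * n = n⁻¹ * t * n⁻¹⁻¹ by rw [inv_inv], conj_pow, inv_inv]
      _ = t ^ k := by rw [h1]
  letI : CommGroup (S : Subgroup G) := open scoped IsMulCommutative in inferInstance
  let f : G →* (S : Subgroup G) := MonoidHom.transfer (MonoidHom.id (S : Subgroup G))
  have hf := MonoidHom.transfer_eq_pow (MonoidHom.id (S : Subgroup G)) t key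
  have hne : f t ≠ 1 := by
    intro h
    have h' : f t = ⟨t ^ (S : Subgroup G).index, _⟩ := hf
    rw [h] at h'
    have h'' := congrArg Subtype.val h'.symm
    simp only [OneMemClass.coe_one] at h''
    have := orderOf_dvd_of_pow_eq_one h''
    rw [ht2] at this
    exact S.not_dvd_index this
  rcases (MonoidHom.normal_ker f).eq_bot_or_eq_top with hb | htop
  · exact hna ⟨⟨fun a b => (MonoidHom.ker_eq_bot_iff f).1 hb (by rw [map_mul, map_mul, mul_comm])⟩⟩
  · exact hne (MonoidHom.mem_ker.1 (htop ▸ Subgroup.mem_top t))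

/-- A perfect central extension with abelian 2-Sylow preimage has no central 2-part. -/
theorem eq_bot_of_abelian_preimage {L : Type*} [Group L] [Finite L] (hL : commutator L = ⊤)
    (Z : Subgroup L) (hZ : Z ≤ Subgroup.center L) (hZ2 : IsPGroup 2 Z) (T : Subgroup L)
    (hT : IsMulCommutative T) (hodd : ¬ 2 ∣ T.index) : Z = ⊥ := by
  haveI := hT
  haveI : T.FiniteIndex := ⟨Subgroup.index_ne_zero_of_finite⟩
  letI : CommGroup T := open scoped IsMulCommutative in inferInstance
  rw [Subgroup.eq_bot_iff_forall]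
  intro z hz
  have key : ∀ (k : ℕ) (g₀ : L), g₀⁻¹ * z ^ k * g₀ ∈ T → g₀⁻¹ * z ^ k * g₀ = z ^ k := fun k g₀ _ => by
    rw [mul_assoc, ← Subgroup.mem_center_iff.1 (pow_mem (hZ hz) k) g₀, inv_mul_cancel_left]
  let f : L →* T := MonoidHom.transfer (MonoidHom.id T)
  have hf := MonoidHom.transfer_eq_pow (MonoidHom.id T) z key
  have h1 : f z = 1 := by
    have hle : commutator L ≤ f.ker := Abelianization.commutator_subset_ker f
    exact MonoidHom.mem_ker.1 (hle (hL ▸ Subgroup.mem_top z))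
  have h2 : z ^ T.index = 1 := by
    have h' : f z = ⟨z ^ T.index, _⟩ := hf
    rw [h1] at h'
    exact (congrArg Subtype.val h').symm
  obtain ⟨j, hj⟩ := hZ2 ⟨z, hz⟩
  have h3 : z ^ 2 ^ j = 1 := congrArg Subtype.val hj
  have hcop : Nat.Coprime (2 ^ j) T.index :=
    Nat.Coprime.pow_left j ((Nat.prime_two.coprime_iff_not_dvd).2 hodd)
  have := pow_gcd_eq_one.2 ⟨h3, h2⟩
  rwa [hcop, pow_one] at this

end Cfsg.Agent.JankoRee
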