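import Cfsg.Agent.Lib.AutPSL.Classes
import Cfsg.Agent.Lib.AutPSL.Centralizer
import Cfsg.Agent.Lib.JankoRee.Transfer
import Cfsg.Agent.Lib.Classical.ProjLine
import Cfsg.Agent.Lib.TwoGroups.NormalFour

/-!
PSL₂ over a finite field of odd order: two commuting involutions are self-centralising in PGL₂, so abelian Sylow
2-subgroups are four-groups and automorphisms of 2-power order fixing one are inner.
-/

set_option autoImplicit false
set_option linter.style.haveILetI false

namespace Cfsg.Agent.JankoRee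

open Matrix Cfsg.Agent.AutPSL

section Field

variable {F : Type*} [Field F]

local notation "M2" => Matrix (Fin 2) (Fin 2) F
local notation "SL2" => Matrix.SpecialLinearGroup (Fin 2) F
local notation "PSL2" => Matrix.ProjectiveSpecialLinearGroup (Fin 2) F

theorem cayley_two (A : M2) : A * A = (A 0 0 + A 1 1) • A - A.det • (1 : M2) := by
  ext i j
  fin_cases i <;> fin_cases j <;> simp [Matrix.mul_apply, Fin.sum_univ_two, Matrix.det_fin_two] <;> ring

theorem anti_sum {X Y : M2} (hX : X 0 0 + X 1 1 = 0) (hY : Y 0 0 + Y 1 1 = 0) :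
    X * Y + Y * X = (2 * X 0 0 * Y 0 0 + X 0 1 * Y 1 0 + X 1 0 * Y 0 1) • (1 : M2) := by
  have hX' : X 1 1 = -X 0 0 := by linear_combination hX
  have hY' : Y 1 1 = -Y 0 0 := by linear_combination hY
  ext i j
  fin_cases i <;> fin_cases j <;> simp [Matrix.mul_apply, Fin.sum_univ_two, hX', hY'] <;> ring

theorem mk_eq_one_of_scalar {s : SL2} {c : F} (h : (s : M2) = c • (1 : M2)) :
    (QuotientGroup.mk s : PSL2) = 1 := by
  rw [QuotientGroup.eq_one_iff, Matrix.SpecialLinearGroup.mem_center_iff]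
  refine ⟨c, ?_, ?_⟩
  · have hd := s.2
    rw [h, Matrix.det_smul, Matrix.det_one, mul_one] at hd
    exact hd
  · rw [h, Matrix.scalar_apply, Matrix.smul_one_eq_diagonal]

/-- An involution of PSL₂ lifts to a matrix of trace zero squaring to -1. -/
theorem lift_involution {s : SL2} (h1 : (QuotientGroup.mk s : PSL2) ≠ 1)
    (h2 : (QuotientGroup.mk (s * s) : PSL2) = 1) :
    (s : M2) 0 0 + (s : M2) 1 1 = 0 ∧ (s : M2) * (s : M2) = -1 := by
  obtain ⟨c, -, hc⟩ := exists_smul_of_mk_eq (s := (1 : SL2)) (t := s * s) (h2.trans (QuotientGroup.mk_one _).symm)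
  rw [Matrix.SpecialLinearGroup.coe_mul, Matrix.SpecialLinearGroup.coe_one] at hc
  have hch := cayley_two (s : M2)
  rw [s.2, one_smul, hc] at hch
  by_cases htr : (s : M2) 0 0 + (s : M2) 1 1 = 0
  · refine ⟨htr, ?_⟩
    rw [hc, hch, htr, zero_smul, zero_sub]
  · refine absurd (mk_eq_one_of_scalar (c := (c + 1) / ((s : M2) 0 0 + (s : M2) 1 1)) ?_) h1
    rw [div_eq_inv_mul, mul_smul, add_smul, one_smul, hch, sub_add_cancel, smul_smul, inv_mul_cancel₀ htr,
      one_smul]

variable (h2 : (2 : F) ≠ 0)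
include h2

/-- Lifts of two distinct commuting involutions anticommute. -/
theorem lift_anticomm {A B : SL2} (hab : (QuotientGroup.mk A : PSL2) ≠ QuotientGroup.mk B)
    (hc : (QuotientGroup.mk (A * B) : PSL2) = QuotientGroup.mk (B * A))
    (hA : (A : M2) 0 0 + (A : M2) 1 1 = 0) (hB : (B : M2) 0 0 + (B : M2) 1 1 = 0)
    (hA2 : (A : M2) * A = -1) : (A : M2) * B = -((B : M2) * A) := by
  obtain ⟨c, hc2, hcc⟩ := exists_smul_of_mk_eq hc
  simp only [Matrix.SpecialLinearGroup.coe_mul] at hcc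
  rcases sq_eq_one_iff.1 hc2 with rfl | rfl
  swap
  · rw [hcc, neg_one_smul]
  exfalso
  rw [one_smul] at hcc
  set τ := 2 * (A : M2) 0 0 * (B : M2) 0 0 + (A : M2) 0 1 * (B : M2) 1 0 + (A : M2) 1 0 * (B : M2) 0 1 with hτ
  have hs := anti_sum hA hB
  rw [← hτ, hcc, ← two_smul F] at hs
  have hs' : (A : M2) * B = (τ / 2) • (1 : M2) := by
    rw [div_eq_inv_mul, mul_smul, ← hs, smul_smul, inv_mul_cancel₀ h2, one_smul, hcc]
  have hBA : (B : M2) = -((τ / 2) • (A : M2)) := by
    have e := congrArg ((A : M2) * ·) hs'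
    simp only [← mul_assoc, hA2, neg_mul, one_mul, mul_smul_comm, mul_one] at e
    rw [← e, neg_neg]
  refine hab ?_
  have hd := congrArg Matrix.det hBA
  rw [← neg_smul, Matrix.det_smul, A.2, B.2, Fintype.card_fin, mul_one] at hd
  refine (QuotientGroup.eq.2 ?_)
  rw [Matrix.SpecialLinearGroup.mem_center_iff]
  refine ⟨-(τ / 2), hd.symm, ?_⟩
  rw [Matrix.SpecialLinearGroup.coe_mul, hBA, Matrix.SpecialLinearGroup.coe_inv, mul_neg, mul_smul_comm,
    Matrix.adjugate_mul, A.2, one_smul, ← neg_smul, Matrix.scalar_apply, Matrix.smul_one_eq_diagonal]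

/-- Only scalars commute with two anticommuting matrices of trace zero squaring to -1. -/
theorem scalar_of_commute {A B g : M2} (hA : A 0 0 + A 1 1 = 0) (hB : B 0 0 + B 1 1 = 0)
    (hA2 : A * A = -1) (hB2 : B * B = -1) (hAB : A * B = -(B * A)) (hgA : g * A = A * g)
    (hgB : g * B = B * g) : ∃ c : F, g = c • (1 : M2) := by
  set p := (g 0 0 + g 1 1) / 2 with hp
  set g₀ := g - p • (1 : M2) with hg₀
  have htr : g₀ 0 0 + g₀ 1 1 = 0 := by
    simp only [hg₀, Matrix.sub_apply, Matrix.smul_apply, Matrix.one_apply_eq, smul_eq_mul, mul_one, hp]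
    field_simp
    ring
  have main : ∀ X : M2, X 0 0 + X 1 1 = 0 → X * X = -1 → g * X = X * g → ∃ c : F, g₀ = c • X := by
    intro X hX hX2 hgX
    have hc : g₀ * X = X * g₀ := by rw [hg₀, sub_mul, mul_sub, hgX, smul_mul_assoc, mul_smul_comm, one_mul, mul_one]
    have hs := anti_sum htr hX
    set τ := 2 * g₀ 0 0 * X 0 0 + g₀ 0 1 * X 1 0 + g₀ 1 0 * X 0 1
    rw [← hc, ← two_smul F] at hs
    have hs' : g₀ * X = (τ / 2) • (1 : M2) := by
      rw [div_eq_inv_mul, mul_smul, ← hs, smul_smul, inv_mul_cancel₀ h2, one_smul]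
    refine ⟨-(τ / 2), ?_⟩
    have e := congrArg (· * X) hs'
    simp only [mul_assoc, hX2, mul_neg, mul_one, smul_mul_assoc, one_mul] at e
    rw [neg_smul, ← e, neg_neg]
  obtain ⟨c, hc⟩ := main A hA hA2 hgA
  obtain ⟨d, hd⟩ := main B hB hB2 hgB
  have hAB0 : A * B ≠ 0 := fun h => by
    have h' := congrArg (A * ·) h
    simp only [← mul_assoc, hA2, neg_mul, one_mul, mul_zero, neg_eq_zero] at h'
    have h'' := congrFun (congrFun hB2 0) 0
    simp [h'] at h''
  have hc0 : (2 * c) • (A * B) = (0 : M2) := by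
    have hcomm : g₀ * B = B * g₀ := by rw [hd, smul_mul_assoc, mul_smul_comm]
    rw [hc, smul_mul_assoc, mul_smul_comm, show B * A = -(A * B) by rw [hAB, neg_neg], smul_neg,
      eq_neg_iff_add_eq_zero, ← add_smul, ← two_mul] at hcomm
    exact hcomm
  rcases smul_eq_zero.1 hc0 with h | h
  · refine ⟨p, ?_⟩
    rw [(mul_eq_zero.1 h).resolve_left h2, zero_smul, hg₀, sub_eq_zero] at hc
    exact hc
  · exact absurd h hAB0

/-- An element of PGL₂ centralising two commuting involutions of PSL₂ is inner by an element they generate. -/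
theorem fix_pair {a b : PSL2} (ha : a ≠ 1) (ha2 : a * a = 1) (hb : b ≠ 1) (hb2 : b * b = 1) (hne : a ≠ b)
    (hab : a * b = b * a) {g : GL (Fin 2) F} (hga : (semi g 1 : MulAut PSL2) a = a)
    (hgb : (semi g 1 : MulAut PSL2) b = b) :
    ∃ x : PSL2, (x = 1 ∨ x = a ∨ x = b ∨ x = a * b) ∧ semi g 1 = MulAut.conj x := by
  obtain ⟨A, rfl⟩ := QuotientGroup.mk_surjective a
  obtain ⟨B, rfl⟩ := QuotientGroup.mk_surjective b
  obtain ⟨hA, hA2⟩ := lift_involution ha ha2
  obtain ⟨hB, hB2⟩ := lift_involution hb hb2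
  have hAB := lift_anticomm h2 hne hab hA hB hA2
  have hBA : (B : M2) * A = -((A : M2) * B) := by rw [hAB, neg_neg]
  have sgn : ∀ X : SL2, (semi g 1 : MulAut PSL2) (QuotientGroup.mk X) = QuotientGroup.mk X →
      (g : M2) * X = (X : M2) * g ∨ (g : M2) * X = -((X : M2) * g) := by
    intro X hX
    rw [semi_mk] at hX
    obtain ⟨c, hc2, hc⟩ := exists_smul_of_mk_eq hX
    rw [slSemi_coe, show (X : M2).map ((1 : F ≃+* F) : F → F) = X from Matrix.map_id _] at hc
    have e := congrArg (· * (g : M2)) hc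
    simp only [mul_assoc, Units.inv_mul, mul_one, smul_mul_assoc] at e
    rcases sq_eq_one_iff.1 hc2 with rfl | rfl
    · left; rw [e, one_smul]
    · right; rw [e, neg_one_smul]
  have hgA := sgn A hga
  have hgB := sgn B hgb
  -- g times one of 1, A, B, AB commutes with both
  obtain ⟨X, hX, hXA, hXB⟩ : ∃ X : SL2, ((QuotientGroup.mk X : PSL2) = 1 ∨
      (QuotientGroup.mk X : PSL2) = QuotientGroup.mk A ∨ (QuotientGroup.mk X : PSL2) = QuotientGroup.mk B ∨
      (QuotientGroup.mk X : PSL2) = QuotientGroup.mk A * QuotientGroup.mk B) ∧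
      (g : M2) * X * A = (A : M2) * ((g : M2) * X) ∧ (g : M2) * X * B = (B : M2) * ((g : M2) * X) := by
    rcases hgA with hgA | hgA <;> rcases hgB with hgB | hgB
    · exact ⟨1, Or.inl (QuotientGroup.mk_one _), by simp [hgA], by simp [hgB]⟩
    · refine ⟨A, Or.inr (Or.inl rfl), ?_, ?_⟩
      · rw [← mul_assoc, ← hgA]
      · rw [mul_assoc, hAB, mul_neg, ← mul_assoc, hgB, neg_mul, neg_neg, mul_assoc]
    · refine ⟨B, Or.inr (Or.inr (Or.inl rfl)), ?_, ?_⟩
      · rw [mul_assoc, hBA, mul_neg, ← mul_assoc, hgA, neg_mul, neg_neg, mul_assoc]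
      · rw [← mul_assoc, ← hgB]
    · refine ⟨A * B, Or.inr (Or.inr (Or.inr (QuotientGroup.mk_mul _ _ _))), ?_, ?_⟩
      · rw [Matrix.SpecialLinearGroup.coe_mul, show (g : M2) * ((A : M2) * B) * A = ((g : M2) * A) * ((B : M2) * A) by
          simp only [mul_assoc], hgA, hBA, neg_mul_neg, mul_assoc]
      · rw [Matrix.SpecialLinearGroup.coe_mul, mul_assoc (g : M2) ((A : M2) * B) (B : M2),
          mul_assoc (A : M2) (B : M2) (B : M2), hB2, mul_neg (A : M2), mul_one, mul_neg (g : M2), ← mul_assoc (B : M2),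
          show (B : M2) * g = -((g : M2) * B) by rw [hgB, neg_neg], neg_mul, mul_assoc (g : M2) (B : M2),
          ← mul_assoc (B : M2) (A : M2), hBA, neg_mul, mul_neg, neg_neg, mul_assoc (A : M2) (B : M2), hB2,
          mul_neg, mul_one, mul_neg]
  obtain ⟨c, hc⟩ := scalar_of_commute h2 hA hB hA2 hB2 hAB hXA hXB
  have hc0 : c ≠ 0 := fun h => by
    have hd := congrArg Matrix.det hc
    rw [h, zero_smul, Matrix.det_zero, Matrix.det_mul, X.2, mul_one] at hd
    exact (Matrix.isUnit_iff_isUnit_det _).1 g.isUnit |>.ne_zero hd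
  refine ⟨(QuotientGroup.mk X)⁻¹, ?_, ?_⟩
  · rcases hX with h | h | h | h <;> rw [h]
    · exact Or.inl inv_one
    · exact Or.inr (Or.inl (inv_eq_of_mul_eq_one_right ha2))
    · exact Or.inr (Or.inr (Or.inl (inv_eq_of_mul_eq_one_right hb2)))
    · refine Or.inr (Or.inr (Or.inr ?_))
      rw [_root_.mul_inv_rev, inv_eq_of_mul_eq_one_right ha2, inv_eq_of_mul_eq_one_right hb2, hab]
  · rw [← QuotientGroup.mk_inv, inner_eq_semi, ← semi_scalar_mul (Units.mk0 c hc0)⁻¹ g]
    congr 1
    refine Units.ext ?_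
    rw [Units.val_mul]
    show Matrix.scalar (Fin 2) (((Units.mk0 c hc0)⁻¹ : Fˣ) : F) * (g : M2) = ((X⁻¹ : SL2) : M2)
    rw [Matrix.scalar_apply, ← Matrix.smul_one_eq_diagonal, smul_mul_assoc, one_mul, Units.val_inv_eq_inv_val,
      Units.val_mk0]
    have e := congrArg (· * ((X⁻¹ : SL2) : M2)) hc
    simp only [mul_assoc, ← Matrix.SpecialLinearGroup.coe_mul, mul_inv_cancel, Matrix.SpecialLinearGroup.coe_one,
      mul_one, smul_mul_assoc, one_mul] at e
    rw [e, smul_smul, inv_mul_cancel₀ hc0, one_smul]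

end Field

variable {F : Type*} [Field F] [Fintype F]

local notation "PSL2" => Matrix.ProjectiveSpecialLinearGroup (Fin 2) F

/-- An abelian Sylow 2-subgroup of PSL₂(q), q odd, q > 3, is a four-group, and an automorphism of 2-power
order fixing it pointwise is conjugation by one of its elements. -/
theorem psl2_sylow (hodd : Odd (Fintype.card F)) (h3 : 3 < Fintype.card F) (V : Sylow 2 PSL2)
    (hV : IsMulCommutative (V : Subgroup PSL2)) :
    Nat.card (V : Subgroup PSL2) = 4 ∧ (∀ v ∈ (V : Subgroup PSL2), v * v = 1) ∧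
      ∀ β : MulAut PSL2, (∃ k : ℕ, β ^ 2 ^ k = 1) → (∀ v ∈ (V : Subgroup PSL2), β v = v) →
        ∃ v ∈ (V : Subgroup PSL2), β = MulAut.conj v := by
  classical
  haveI : Fact (Nat.Prime 2) := ⟨Nat.prime_two⟩
  haveI : IsSimpleGroup PSL2 := Matrix.ProjectiveSpecialLinearGroup.rank_two_simple (by
    rw [Nat.card_eq_fintype_card]; omega)
  have h2 : (2 : F) ≠ 0 := by
    intro h
    haveI : CharP F 2 := CharTwo.of_one_ne_zero_of_two_eq_zero one_ne_zero h
    obtain ⟨n, hn, hc⟩ := FiniteField.card F 2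
    rw [hc] at hodd
    exact Nat.not_even_iff_odd.2 hodd ((Nat.even_pow).2 ⟨even_two, n.ne_zero⟩)
  have hcard : Nat.card PSL2 * 2 = Fintype.card F * (Fintype.card F - 1) * (Fintype.card F + 1) := by
    have h := ProjLine.two_mul_card_psl (F := F)
    rw [Nat.card_eq_fintype_card (α := F)] at h
    rw [show Nat.gcd 2 (Fintype.card F - 1) = 2 from Nat.gcd_eq_left (by obtain ⟨r, hr⟩ := hodd; omega)] at h
    refine Nat.eq_of_mul_eq_mul_right (show 0 < Fintype.card F - 1 by omega) ?_
    rw [mul_comm (Nat.card PSL2) 2, h]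
    ring
  have hcomm : ∀ x ∈ (V : Subgroup PSL2), ∀ y ∈ (V : Subgroup PSL2), x * y = y * x := fun x hx y hy =>
    congrArg Subtype.val (hV.is_comm.comm (⟨x, hx⟩ : (V : Subgroup PSL2)) ⟨y, hy⟩)
  have hna : ¬ IsMulCommutative PSL2 := fun h => by
    obtain ⟨g, hg⟩ := QuotientGroup.mk_surjective
      (s := Subgroup.center (Matrix.SpecialLinearGroup (Fin 2) F))
      ((QuotientGroup.mk (Matrix.SpecialLinearGroup.transvection (show (0 : Fin 2) ≠ 1 by decide) (1 : F)) : PSL2))
    have hc := h.is_comm.comm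
      (QuotientGroup.mk (Matrix.SpecialLinearGroup.transvection (show (0 : Fin 2) ≠ 1 by decide) (1 : F)) : PSL2)
      (QuotientGroup.mk (Matrix.SpecialLinearGroup.transvection (show (1 : Fin 2) ≠ 0 by decide) (1 : F)) : PSL2)
    rw [← QuotientGroup.mk_mul, ← QuotientGroup.mk_mul] at hc
    obtain ⟨c, -, hcc⟩ := exists_smul_of_mk_eq hc
    have e01 := congrFun (congrFun hcc 0) 1
    have e00 := congrFun (congrFun hcc 0) 0
    simp [Matrix.SpecialLinearGroup.transvection_coe, Matrix.mul_apply, Fin.sum_univ_two] at e01 e00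
    rw [← e01] at e00
    exact one_ne_zero (α := F) (by linear_combination e00)
  have hV1 : (V : Subgroup PSL2) ≠ ⊥ := fun hb => by
    have hd : 2 ∣ Nat.card PSL2 := by
      obtain ⟨r, hr⟩ := hodd
      have : 4 ∣ Nat.card PSL2 * 2 := ⟨(2 * r + 1) * r * (r + 1), by rw [hcard, hr]; simp; ring⟩
      omega
    have := V.dvd_card_of_dvd_card hd
    rw [show Nat.card (V : Subgroup PSL2) = 1 by rw [hb, Subgroup.card_bot]] at this
    omega
  -- two involutions
  obtain ⟨a, b, haV, hbV, ha, ha2, hb, hb2, hne⟩ : ∃ a b : PSL2, a ∈ (V : Subgroup PSL2) ∧ b ∈ (V : Subgroup PSL2) ∧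
      a ≠ 1 ∧ a * a = 1 ∧ b ≠ 1 ∧ b * b = 1 ∧ a ≠ b := by
    by_contra hcon
    push Not at hcon
    haveI := hV
    letI : CommGroup (V : Subgroup PSL2) := open scoped IsMulCommutative in inferInstance
    have hker : Nat.card (powMonoidHom 2 : (V : Subgroup PSL2) →* (V : Subgroup PSL2)).ker ≤ 2 := by
      by_contra hlt
      push Not at hlt
      haveI := Fintype.ofFinite (powMonoidHom 2 : (V : Subgroup PSL2) →* (V : Subgroup PSL2)).ker
      rw [Nat.card_eq_fintype_card] at hlt
      obtain ⟨x, y, z, hxy, hxz, hyz⟩ := Fintype.two_lt_card_iff.1 hlt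
      have sq : ∀ u : (powMonoidHom 2 : (V : Subgroup PSL2) →* (V : Subgroup PSL2)).ker,
          ((u : (V : Subgroup PSL2)) : PSL2) * ((u : (V : Subgroup PSL2)) : PSL2) = 1 := by
        intro u
        have h := congrArg Subtype.val (MonoidHom.mem_ker.1 u.2)
        rw [powMonoidHom_apply, SubmonoidClass.coe_pow, pow_two] at h
        exact h
      have key : ∀ u v : (powMonoidHom 2 : (V : Subgroup PSL2) →* (V : Subgroup PSL2)).ker,
          u ≠ 1 → v ≠ 1 → u = v := fun u v hu hv => by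
        refine Subtype.ext (Subtype.ext (hcon _ _ u.1.2 v.1.2 ?_ (sq u) ?_ (sq v)))
        · exact fun h => hu (Subtype.ext (Subtype.ext h))
        · exact fun h => hv (Subtype.ext (Subtype.ext h))
      by_cases hx : x = 1
      · exact hyz (key y z (hx ▸ hxy.symm) (hx ▸ hxz.symm))
      by_cases hy : y = 1
      · exact hxz (key x z hx (hy ▸ hyz.symm))
      exact hxy (key x y hx hy)
    have hcyc : IsCyclic (V : Subgroup PSL2) := NormalFour.isCyclic_of_sqrt_le_two V.isPGroup' hker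
    refine normalizer_not_le_centralizer hna V hV1 (IsCyclic.normalizer_le_centralizer ?_ hcyc)
    rw [Nat.minFac_eq_two_iff]
    by_contra hd
    refine hV1 (Subgroup.card_eq_one.1 ?_)
    obtain ⟨n, hn⟩ := V.isPGroup'.exists_card_eq
    rcases n with _ | n
    · simpa using hn
    · exact absurd ((dvd_pow_self 2 (Nat.succ_ne_zero n)).trans (hn ▸ Subgroup.card_subgroup_dvd_card _)) hd
  have hab := hcomm a haV b hbV
  -- conjugations fixing a and b
  have conjfix : ∀ x : PSL2, x * a = a * x → x * b = b * x → x = 1 ∨ x = a ∨ x = b ∨ x = a * b := by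
    intro x hxa hxb
    obtain ⟨X, rfl⟩ := QuotientGroup.mk_surjective x
    obtain ⟨y, hy, he⟩ := fix_pair h2 ha ha2 hb hb2 hne hab (g := Matrix.SpecialLinearGroup.toGL X)
      (by rw [← inner_eq_semi, MulAut.conj_apply, hxa, mul_inv_cancel_right])
      (by rw [← inner_eq_semi, MulAut.conj_apply, hxb, mul_inv_cancel_right])
    rw [← inner_eq_semi] at he
    have hxy : (QuotientGroup.mk X : PSL2) = y := by
      have hz : y⁻¹ * QuotientGroup.mk X ∈ Subgroup.center PSL2 := by
        rw [Subgroup.mem_center_iff]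
        intro w
        have hw := congrArg (fun f : MulAut PSL2 => f w) he
        simp only [MulAut.conj_apply] at hw
        have e := congrArg (fun u => y⁻¹ * u * QuotientGroup.mk X) hw
        simp only [mul_assoc, inv_mul_cancel, mul_one, inv_mul_cancel_left] at e
        rw [mul_assoc, e]
      rcases (inferInstance : (Subgroup.center PSL2).Normal).eq_bot_or_eq_top with hbot | htop
      · rw [hbot, Subgroup.mem_bot, inv_mul_eq_one] at hz
        exact hz.symm
      · exact absurd ⟨⟨fun u v => Subgroup.mem_center_iff.1 (htop ▸ Subgroup.mem_top v) u⟩⟩ hna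
    rwa [hxy]
  have hVset : ((V : Subgroup PSL2) : Set PSL2) = {1, a, b, a * b} := by
    ext x
    constructor
    · intro hx
      exact conjfix x (hcomm x hx a haV) (hcomm x hx b hbV)
    · rintro (rfl | rfl | rfl | rfl)
      · exact one_mem _
      · exact haV
      · exact hbV
      · exact mul_mem haV hbV
  have hVcard : Nat.card (V : Subgroup PSL2) = 4 := by
    rw [← SetLike.coe_sort_coe, hVset, Nat.card_coe_set_eq]
    have h1 : a ≠ a * b := fun h => hb (mul_eq_left.1 h.symm)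
    have h3' : b ≠ a * b := fun h => ha (mul_eq_right.1 h.symm)
    have h4 : (1 : PSL2) ≠ a * b := fun h => hne (mul_left_cancel (a := a) (by rw [ha2, ← h]))
    rw [Set.ncard_insert_of_notMem (by simp [Ne.symm ha, Ne.symm hb, h4]),
      Set.ncard_insert_of_notMem (by simp [hne, h1]), Set.ncard_pair h3']
  refine ⟨hVcard, fun v hv => ?_, fun β hβ hfix => ?_⟩
  · have : v ∈ ((V : Subgroup PSL2) : Set PSL2) := hv
    rw [hVset] at this
    rcases this with rfl | rfl | rfl | rfl
    · exact one_mul 1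
    · exact ha2
    · exact hb2
    · rw [mul_assoc, ← mul_assoc b, ← hab, mul_assoc a b b, hb2, mul_one, ha2]
  obtain ⟨k, hk⟩ := hβ
  obtain ⟨g, σ, hg | ⟨h', -⟩⟩ := aut_eq (n := 2) le_rfl β
  swap
  · exact absurd h' (by norm_num)
  subst hg
  have hσk : σ ^ 2 ^ k = 1 := by
    rw [semi_pow] at hk
    exact (semi_eq_one le_rfl hk).1
  have hσ : σ = 1 := by
    by_contra hσ1
    obtain ⟨j, -, hj⟩ := (Nat.dvd_prime_pow Nat.prime_two).1 (orderOf_dvd_of_pow_eq_one hσk)
    obtain ⟨i, rfl⟩ : ∃ i, j = i + 1 := ⟨j - 1, by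
      rcases j with _ | j
      · exact absurd (orderOf_eq_one_iff.1 hj) hσ1
      · rfl⟩
    have hτ : orderOf (σ ^ 2 ^ i) = 2 := by
      rw [orderOf_pow' _ (by positivity), hj, Nat.gcd_eq_right (pow_dvd_pow 2 (Nat.le_succ i)), pow_succ,
        Nat.mul_div_cancel_left _ (by positivity)]
    obtain ⟨K, -, hK⟩ := exists_fixed_field (σ ^ 2 ^ i)
    rw [hτ] at hK
    have hd8 : 8 ∣ Nat.card PSL2 := by
      obtain ⟨r, hr⟩ : Odd (Nat.card K) := (Nat.odd_pow_iff (by norm_num)).1 (hK ▸ hodd)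
      have h2' : 2 ∣ r * (r + 1) := (Nat.even_mul_succ_self r).two_dvd
      obtain ⟨m, hm⟩ := h2'
      have e1 : Fintype.card F - 1 = 8 * m := by
        rw [hK, hr]
        have : (2 * r + 1) ^ 2 = 4 * (r * (r + 1)) + 1 := by ring
        omega
      have : 16 ∣ Nat.card PSL2 * 2 := by
        rw [hcard, e1, show Fintype.card F = 8 * m + 1 by omega]
        exact ⟨(8 * m + 1) * m * (4 * m + 1), by ring⟩
      omega
    obtain ⟨s, hs⟩ := V.pow_dvd_card_of_pow_dvd_card (n := 3) hd8
    rw [hVcard] at hs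
    omega
  subst hσ
  obtain ⟨x, hx, hxc⟩ := fix_pair h2 ha ha2 hb hb2 hne hab (hfix a haV) (hfix b hbV)
  refine ⟨x, ?_, hxc⟩
  show x ∈ ((V : Subgroup PSL2) : Set PSL2)
  rw [hVset]
  exact hx

end Cfsg.Agent.JankoRee
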