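import Cfsg.Agent.Lib.JankoRee.PSL2Four

/-!
The Sylow 2-subgroup of a simple group with an involution centraliser `⟨t⟩ × E`, `PSL₂(q) ⊴ E`, abelian Sylow
2-subgroups: it is `⟨t⟩ × V` with a four-group `V`, and is normalised by an element acting fixed-point-freely on `V`.
-/

set_option autoImplicit false
set_option linter.style.haveILetI false

namespace Cfsg.Agent.JankoRee

theorem four_cases {G : Type*} [Group G] [Finite G] {V : Subgroup G} (h4 : Nat.card V = 4)
    (h2 : ∀ v ∈ V, v * v = 1) {v w : G} (hv : v ∈ V) (hw : w ∈ V) (hv1 : v ≠ 1) (hw1 : w ≠ 1) (hne : v ≠ w)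
    {u : G} (hu : u ∈ V) : u = 1 ∨ u = v ∨ u = w ∨ u = v * w := by
  classical
  have hsub : ({1, v, w, v * w} : Set G) ⊆ (V : Set G) := by
    rintro x (rfl | rfl | rfl | rfl)
    · exact one_mem _
    · exact hv
    · exact hw
    · exact mul_mem hv hw
  have hc : ({1, v, w, v * w} : Set G).ncard = 4 := by
    have h1 : v ≠ v * w := fun h => hw1 (mul_eq_left.1 h.symm)
    have h3 : w ≠ v * w := fun h => hv1 (mul_eq_right.1 h.symm)
    have h4' : (1 : G) ≠ v * w := fun h => hne (mul_left_cancel (a := v) (by rw [h2 v hv, ← h]))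
    rw [Set.ncard_insert_of_notMem (by simp [Ne.symm hv1, Ne.symm hw1, h4']),
      Set.ncard_insert_of_notMem (by simp [hne, h1]), Set.ncard_pair h3]
  have heq := Set.eq_of_subset_of_ncard_le hsub (by
    rw [hc, ← Nat.card_coe_set_eq]; exact h4.le) (Set.toFinite _)
  have : u ∈ ({1, v, w, v * w} : Set G) := heq ▸ hu
  simpa using this

/-- `psl2_sylow` for an isomorphic copy of PSL₂. -/
theorem psl2_sylow_of_equiv {F : Type*} [Field F] [Fintype F] (hodd : Odd (Fintype.card F))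
    (h3 : 3 < Fintype.card F) {M : Type*} [Group M]
    (e : M ≃* Matrix.ProjectiveSpecialLinearGroup (Fin 2) F) (V : Sylow 2 M)
    (hV : IsMulCommutative (V : Subgroup M)) :
    Nat.card (V : Subgroup M) = 4 ∧ (∀ v ∈ (V : Subgroup M), v * v = 1) ∧
      ∀ β : MulAut M, (∃ k : ℕ, β ^ 2 ^ k = 1) → (∀ v ∈ (V : Subgroup M), β v = v) →
        ∃ v ∈ (V : Subgroup M), β = MulAut.conj v := by
  haveI : Fact (Nat.Prime 2) := ⟨Nat.prime_two⟩
  haveI : Finite M := Finite.of_injective e e.injective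
  let V' := V.mapSurjective (f := e.toMonoidHom) e.surjective
  have hcoe : (V' : Subgroup (Matrix.ProjectiveSpecialLinearGroup (Fin 2) F)) = (V : Subgroup M).map e.toMonoidHom :=
    Sylow.coe_mapSurjective _ V
  have hV' : IsMulCommutative (V' : Subgroup (Matrix.ProjectiveSpecialLinearGroup (Fin 2) F)) := by
    refine ⟨⟨fun a b => Subtype.ext ?_⟩⟩
    obtain ⟨x, hx, hxe⟩ := Subgroup.mem_map.1 ((SetLike.ext_iff.1 hcoe _).1 a.2)
    obtain ⟨y, hy, hye⟩ := Subgroup.mem_map.1 ((SetLike.ext_iff.1 hcoe _).1 b.2)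
    rw [Subgroup.coe_mul, Subgroup.coe_mul, ← hxe, ← hye, ← map_mul, ← map_mul]
    exact congrArg e.toMonoidHom (congrArg Subtype.val (hV.is_comm.comm (⟨x, hx⟩ : (V : Subgroup M)) ⟨y, hy⟩))
  obtain ⟨h4, hsq, haut⟩ := psl2_sylow hodd h3 V' hV'
  rw [hcoe] at h4 hsq haut
  refine ⟨?_, fun v hv => ?_, fun β hβ hfix => ?_⟩
  · rw [← h4, Subgroup.card_map_of_injective e.injective]
  · refine e.injective ?_
    rw [map_mul, map_one]
    exact hsq _ (Subgroup.mem_map_of_mem _ hv)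
  · obtain ⟨k, hk⟩ := hβ
    obtain ⟨w, hw, hwe⟩ := haut (MulAut.congr e β) ⟨k, by rw [← map_pow, hk, map_one]⟩ (by
      intro w hw
      obtain ⟨v, hv, rfl⟩ := Subgroup.mem_map.1 hw
      show e (β (e.symm (e v))) = e v
      rw [e.symm_apply_apply, hfix v hv])
    obtain ⟨v, hv, rfl⟩ := Subgroup.mem_map.1 hw
    refine ⟨v, hv, MulEquiv.ext fun x => e.injective ?_⟩
    have := DFunLike.congr_fun hwe (e x)
    rw [MulAut.conj_apply] at this ⊢
    rw [map_mul, map_mul, map_inv]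
    simpa using this

variable {G : Type*} [Group G]

structure Setup (t : G) where
  S : Sylow 2 G
  N : Subgroup G
  V : Subgroup G
  r : G
  hN : N ≤ Subgroup.centralizer {t}
  hnorm : Subgroup.centralizer {t} ≤ Subgroup.normalizer (N : Set G)
  hcent : ∀ c ∈ Subgroup.centralizer ({t} : Set G), (∀ x ∈ N, c * x = x * c) → c ∈ Subgroup.zpowers t
  simple : IsSimpleGroup N
  haut : ∀ β : MulAut N, (∃ k : ℕ, β ^ 2 ^ k = 1) → (∀ x : N, (x : G) ∈ V → β x = x) →
    ∃ v : N, (v : G) ∈ V ∧ β = MulAut.conj v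
  hVN : V ≤ N
  hVS : V ≤ (S : Subgroup G)
  htS : t ∈ (S : Subgroup G)
  hSC : (S : Subgroup G) ≤ Subgroup.centralizer {t}
  hS2 : ∀ s ∈ (S : Subgroup G), s * s = 1
  dec : ∀ s ∈ (S : Subgroup G), ∃ v ∈ V, ∃ a ∈ Subgroup.zpowers t, s = v * a
  card_V : Nat.card V = 4
  hrN : r ∈ N
  hrV : ∀ v ∈ V, r * v * r⁻¹ ∈ V
  hrS : r ∈ Subgroup.normalizer ((S : Subgroup G) : Set G)
  hrfix : ∀ v ∈ V, r * v * r⁻¹ = v → v = 1

theorem Setup.rsurj [Finite G] {t : G} (D : Setup t) {v : G} (hv : v ∈ D.V) :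
    ∃ u ∈ D.V, v = u⁻¹ * (D.r * u * D.r⁻¹) := by
  let f : D.V → D.V := fun u => ⟨(u : G)⁻¹ * (D.r * u * D.r⁻¹), mul_mem (inv_mem u.2) (D.hrV _ u.2)⟩
  have comm : ∀ a ∈ D.V, ∀ b ∈ D.V, a * b = b * a := fun a ha b hb => by
    have h : (a * b) * (a * b) = 1 := D.hS2 _ (D.hVS (mul_mem ha hb))
    have ha2 : a⁻¹ = a := inv_eq_of_mul_eq_one_right (D.hS2 _ (D.hVS ha))
    have hb2 : b⁻¹ = b := inv_eq_of_mul_eq_one_right (D.hS2 _ (D.hVS hb))
    conv_lhs => rw [← inv_eq_of_mul_eq_one_right h, _root_.mul_inv_rev, ha2, hb2]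
  have hinj : Function.Injective f := by
    intro a b hab
    have h := congrArg Subtype.val hab
    simp only [f] at h
    have h1 : D.r * ((a : G) * (b : G)⁻¹) * D.r⁻¹ = (a : G) * (b : G)⁻¹ := by
      calc D.r * ((a : G) * (b : G)⁻¹) * D.r⁻¹ = (D.r * a * D.r⁻¹) * (D.r * b * D.r⁻¹)⁻¹ := by group
        _ = (a : G) * ((a : G)⁻¹ * (D.r * a * D.r⁻¹)) * (D.r * b * D.r⁻¹)⁻¹ := by group
        _ = (a : G) * (b : G)⁻¹ := by rw [h]; group
    exact Subtype.ext (mul_inv_eq_one.1 (D.hrfix _ (mul_mem a.2 (inv_mem b.2)) h1))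
  obtain ⟨u, hu⟩ := Finite.surjective_of_injective hinj ⟨v, hv⟩
  exact ⟨u, u.2, (congrArg Subtype.val hu).symm⟩

/-- Existence of the configuration. -/
theorem exists_setup [Finite G] (hab : ∀ S : Sylow 2 G, IsMulCommutative (S : Subgroup G)) {t : G}
    (ht : orderOf t = 2) (N : Subgroup G) (hN : N ≤ Subgroup.centralizer {t})
    (hnorm : Subgroup.centralizer {t} ≤ Subgroup.normalizer (N : Set G))
    (hcent : ∀ c ∈ Subgroup.centralizer ({t} : Set G), (∀ x ∈ N, c * x = x * c) → c ∈ Subgroup.zpowers t)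
    {F : Type*} [Field F] [Fintype F] (hodd : Odd (Fintype.card F)) (h3 : 3 < Fintype.card F)
    (e : N ≃* Matrix.ProjectiveSpecialLinearGroup (Fin 2) F) : Nonempty (Setup t) := by
  classical
  haveI : Fact (Nat.Prime 2) := ⟨Nat.prime_two⟩
  haveI : IsSimpleGroup (Matrix.ProjectiveSpecialLinearGroup (Fin 2) F) :=
    Matrix.ProjectiveSpecialLinearGroup.rank_two_simple (by rw [Nat.card_eq_fintype_card]; omega)
  haveI : Nontrivial N := e.toEquiv.nontrivial
  haveI hsimp : IsSimpleGroup N := IsSimpleGroup.isSimpleGroup_of_surjective e.symm.toMonoidHom e.symm.surjective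
  obtain ⟨V'⟩ : Nonempty (Sylow 2 N) := inferInstance
  let V : Subgroup G := (V' : Subgroup N).map N.subtype
  have hVN : V ≤ N := Subgroup.map_subtype_le _
  have hV2 : IsPGroup 2 V := V'.isPGroup'.map _
  have hVab : IsMulCommutative (V' : Subgroup N) := by
    obtain ⟨S0, hS0⟩ := hV2.exists_le_sylow
    refine ⟨⟨fun a b => Subtype.ext (Subtype.ext ?_)⟩⟩
    have h := congrArg Subtype.val ((hab S0).is_comm.comm
      (⟨((a : N) : G), hS0 (Subgroup.mem_map_of_mem _ a.2)⟩ : (S0 : Subgroup G))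
      ⟨((b : N) : G), hS0 (Subgroup.mem_map_of_mem _ b.2)⟩)
    exact h
  obtain ⟨h4, hsq, haut⟩ := psl2_sylow_of_equiv hodd h3 e V' hVab
  have ht2 : IsPGroup 2 (Subgroup.zpowers t) := IsPGroup.of_card (n := 1) (by rw [Nat.card_zpowers, ht, pow_one])
  have htV : V ≤ Subgroup.normalizer ((Subgroup.zpowers t : Subgroup G) : Set G) :=
    fun v hv => Subgroup.centralizer_le_normalizer _ (Subgroup.mem_centralizer_iff.2 fun x hx => by
      obtain ⟨i, rfl⟩ := Subgroup.mem_zpowers_iff.1 hx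
      have hc : Commute v t := Subgroup.mem_centralizer_singleton_iff.1 (hN (hVN hv))
      exact (hc.zpow_right i).eq.symm)
  obtain ⟨S, hS⟩ := (ht2.to_sup_of_normal_left' hV2 htV).exists_le_sylow
  have htS : t ∈ (S : Subgroup G) := hS (Subgroup.mem_sup_left (Subgroup.mem_zpowers t))
  have hVS : V ≤ (S : Subgroup G) := le_sup_right.trans hS
  have hcomm : ∀ a ∈ (S : Subgroup G), ∀ b ∈ (S : Subgroup G), a * b = b * a := fun a ha b hb =>
    congrArg Subtype.val ((hab S).is_comm.comm (⟨a, ha⟩ : (S : Subgroup G)) ⟨b, hb⟩)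
  have hSC : (S : Subgroup G) ≤ Subgroup.centralizer {t} := fun s hs =>
    Subgroup.mem_centralizer_singleton_iff.2 (hcomm s hs t htS)
  have haut' : ∀ β : MulAut N, (∃ k : ℕ, β ^ 2 ^ k = 1) → (∀ x : N, (x : G) ∈ V → β x = x) →
      ∃ v : N, (v : G) ∈ V ∧ β = MulAut.conj v := fun β hβ hfix => by
    obtain ⟨v, hv, he⟩ := haut β hβ fun v hv => hfix v (Subgroup.mem_map_of_mem _ hv)
    exact ⟨v, Subgroup.mem_map_of_mem _ hv, he⟩
  have dec : ∀ s ∈ (S : Subgroup G), ∃ v ∈ V, ∃ a ∈ Subgroup.zpowers t, s = v * a := by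
    intro s hs
    obtain ⟨k, hk⟩ := S.isPGroup' ⟨s, hs⟩
    have hk' : s ^ 2 ^ k = 1 := congrArg Subtype.val hk
    have hsn := hnorm (hSC hs)
    obtain ⟨v, hv, he⟩ := haut' (N.normalizerMonoidHom ⟨s, hsn⟩) ⟨k, by
      rw [← map_pow]
      convert map_one (N.normalizerMonoidHom) using 2
      exact Subtype.ext hk'⟩ (fun x hx => Subtype.ext (by
        show s * (x : G) * s⁻¹ = (x : G)
        rw [hcomm s hs _ (hVS hx), mul_inv_cancel_right]))
    refine ⟨v, hv, (v : G)⁻¹ * s, hcent _ (mul_mem (inv_mem (hN v.2)) (hSC hs)) (fun x hx => ?_), by group⟩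
    have h := congrArg Subtype.val (DFunLike.congr_fun he ⟨x, hx⟩)
    change s * x * s⁻¹ = (v : G) * x * (v : G)⁻¹ at h
    calc (v : G)⁻¹ * s * x = (v : G)⁻¹ * (s * x * s⁻¹) * s := by group
      _ = x * ((v : G)⁻¹ * s) := by rw [h]; group
  have hVsq : ∀ v ∈ V, v * v = 1 := by
    rintro _ ⟨v, hv, rfl⟩
    rw [← map_mul, hsq v hv, map_one]
  have hS2 : ∀ s ∈ (S : Subgroup G), s * s = 1 := by
    intro s hs
    obtain ⟨v, hv, a, ha, rfl⟩ := dec s hs
    have haS : a ∈ (S : Subgroup G) := Subgroup.zpowers_le.2 htS ha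
    have ha2 : a * a = 1 := by
      obtain ⟨i, rfl⟩ := Subgroup.mem_zpowers_iff.1 ha
      rw [← zpow_add, ← two_mul, zpow_mul, show t ^ (2 : ℤ) = 1 by rw [zpow_ofNat, ← ht, pow_orderOf_eq_one],
        one_zpow]
    rw [mul_assoc, ← mul_assoc a, hcomm a haS v (hVS hv), mul_assoc v a a, ha2, mul_one, hVsq v hv]
  have hcardV : Nat.card V = 4 := by
    rw [Subgroup.card_map_of_injective N.subtype_injective, h4]
  have hNna : ¬ IsMulCommutative N := fun h => by
    letI : CommGroup N := { (inferInstance : Group N) with mul_comm := h.is_comm.comm }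
    have hp := IsSimpleGroup.prime_card (α := N)
    have hd : 4 ∣ Nat.card N := h4 ▸ Subgroup.card_subgroup_dvd_card _
    have := (Nat.prime_dvd_prime_iff_eq Nat.prime_two hp).1 ((by norm_num : 2 ∣ 4).trans hd)
    rw [← this] at hd
    norm_num at hd
  have hV'1 : (V' : Subgroup N) ≠ ⊥ := fun hb => by
    rw [hb, Subgroup.card_bot] at h4; omega
  obtain ⟨n, hn, hnc⟩ := SetLike.not_le_iff_exists.1 (normalizer_not_le_centralizer hNna V' hV'1)
  have hnc2 : ¬ n * n ∈ Subgroup.centralizer ((V' : Subgroup N) : Set N) := fun h =>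
    hnc (centralizes_of_sq V' hVab hn h)
  have hrV : ∀ v ∈ V, (n : G) * v * (n : G)⁻¹ ∈ V := by
    rintro _ ⟨v, hv, rfl⟩
    exact ⟨n * v * n⁻¹, (Subgroup.mem_normalizer_iff.1 hn v).1 hv, by simp⟩
  have hrfix : ∀ v ∈ V, (n : G) * v * (n : G)⁻¹ = v → v = 1 := by
    intro v hv hfix
    by_contra hv1
    obtain ⟨w, hwV, hw1, hne⟩ : ∃ w ∈ V, w ≠ 1 ∧ v ≠ w := by
      by_contra hcon
      push Not at hcon
      have hsub : (V : Set G) ⊆ {1, v} := fun w hw => by
        by_cases hw1 : w = 1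
        · exact Or.inl hw1
        · exact Or.inr (hcon w hw hw1).symm
      have := Set.ncard_le_ncard hsub (Set.toFinite _)
      have h2 : ({1, v} : Set G).ncard ≤ 2 := (Set.ncard_insert_le _ _).trans (by simp)
      rw [← Nat.card_coe_set_eq] at this
      have : Nat.card V ≤ 2 := this.trans h2
      omega
    have four := fun {u} hu => four_cases hcardV hVsq hv hwV hv1 hw1 hne (u := u) hu
    refine hnc2 (Subgroup.mem_centralizer_iff.2 fun x hx => Subtype.ext ?_)
    have hw2 : (n : G) * (n : G) * w * ((n : G) * (n : G))⁻¹ = w := by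
      rw [show (n : G) * (n : G) * w * ((n : G) * (n : G))⁻¹ = n * (n * w * (n : G)⁻¹) * (n : G)⁻¹ by group]
      rcases four (hrV w hwV) with h | h | h | h
      · exact absurd (conj_eq_one_iff.1 h) hw1
      · exact absurd ((MulAut.conj (n : G)).injective (by simp [h, hfix])) (Ne.symm hne)
      · rw [h, h]
      · rw [h, show (n : G) * (v * w) * (n : G)⁻¹ = (n * v * (n : G)⁻¹) * (n * w * (n : G)⁻¹) by group, hfix, h,
          ← mul_assoc, hVsq v hv, one_mul]
    have hv2 : (n : G) * (n : G) * v * ((n : G) * (n : G))⁻¹ = v := by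
      rw [show (n : G) * (n : G) * v * ((n : G) * (n : G))⁻¹ = n * (n * v * (n : G)⁻¹) * (n : G)⁻¹ by group, hfix,
        hfix]
    rw [mul_inv_eq_iff_eq_mul] at hw2 hv2
    show (x : G) * ((n : G) * n) = (n : G) * n * x
    rcases four (Subgroup.mem_map_of_mem N.subtype hx) with h | h | h | h <;> change (x : G) = _ at h <;> rw [h]
    · rw [one_mul, mul_one]
    · exact hv2.symm
    · exact hw2.symm
    · rw [mul_assoc, ← hw2, ← mul_assoc, ← hv2, mul_assoc]
  refine ⟨⟨S, N, V, n, hN, hnorm, hcent, hsimp, haut', hVN, hVS, htS, hSC, hS2, dec, hcardV, n.2, hrV, ?_, hrfix⟩⟩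
  rw [Subgroup.mem_normalizer_iff]
  have hsub : ∀ s ∈ (S : Subgroup G), (n : G) * s * (n : G)⁻¹ ∈ (S : Subgroup G) := by
    intro s hs
    obtain ⟨v, hv, a, ha, rfl⟩ := dec s hs
    obtain ⟨i, rfl⟩ := Subgroup.mem_zpowers_iff.1 ha
    have hc : Commute (n : G) t := Subgroup.mem_centralizer_singleton_iff.1 (hN n.2)
    have hct : Commute (n : G) (t ^ i) := hc.zpow_right i
    rw [show (n : G) * (v * t ^ i) * (n : G)⁻¹ = (n * v * (n : G)⁻¹) * (n * t ^ i * (n : G)⁻¹) by group, hct.eq,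
      mul_inv_cancel_right]
    exact mul_mem (hVS (hrV v hv)) (zpow_mem htS i)
  intro h
  refine ⟨hsub h, fun hh => ?_⟩
  obtain ⟨m, hm⟩ : ∃ m : ℕ, (n : G) ^ m = (n : G)⁻¹ := by
    refine ⟨orderOf (n : G) - 1, eq_inv_of_mul_eq_one_left ?_⟩
    rw [← pow_succ, Nat.sub_add_cancel (orderOf_pos _), pow_orderOf_eq_one]
  have hiter : ∀ m : ℕ, ∀ s ∈ (S : Subgroup G), (n : G) ^ m * s * ((n : G) ^ m)⁻¹ ∈ (S : Subgroup G) := by
    intro m
    induction m with
    | zero => intro s hs; simpa using hs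
    | succ m ih =>
      intro s hs
      have := hsub _ (ih s hs)
      rwa [pow_succ', show (n : G) * (n : G) ^ m * s * ((n : G) * (n : G) ^ m)⁻¹ =
        n * ((n : G) ^ m * s * ((n : G) ^ m)⁻¹) * (n : G)⁻¹ by group]
  have := hiter m _ hh
  rw [hm, inv_inv] at this
  simpa [mul_assoc] using this

end Cfsg.Agent.JankoRee
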