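import Cfsg.Agent.Lib.JankoRee.Setup

/-!
Groups of Janko–Ree type: no perfect central 2-extension, and every automorphism of 2-power order fixing a
Sylow 2-subgroup pointwise is inner.
-/

set_option autoImplicit false
set_option linter.style.haveILetI false

namespace Cfsg.Agent.JankoRee

variable {G : Type*} [Group G] [Finite G] [IsSimpleGroup G]

open scoped commutatorElement

omit [IsSimpleGroup G] in
theorem Setup.tsq {t : G} (D : Setup t) {a : G} (ha : a ∈ Subgroup.zpowers t) : a = 1 ∨ a = t := by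
  obtain ⟨i, rfl⟩ := Subgroup.mem_zpowers_iff.1 ha
  have h2 : t ^ (2 : ℤ) = 1 := by rw [zpow_ofNat, pow_two]; exact D.hS2 t D.htS
  rcases Int.even_or_odd i with ⟨j, rfl⟩ | ⟨j, rfl⟩
  · left; rw [← two_mul, zpow_mul, h2, one_zpow]
  · right; rw [zpow_add, zpow_mul, h2, one_zpow, one_mul, zpow_one]

theorem Setup.ext_trivial (hna : ¬ IsMulCommutative G) (hab : ∀ S : Sylow 2 G, IsMulCommutative (S : Subgroup G))
    {t : G} (ht : orderOf t = 2) (D : Setup t) {L : Type*} [Group L] [Finite L] (hL : commutator L = ⊤)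
    (π : L →* G) (hπ : Function.Surjective π) (hZ : π.ker ≤ Subgroup.center L) (hZ2 : IsPGroup 2 π.ker) :
    π.ker = ⊥ := by
  haveI : Fact (Nat.Prime 2) := ⟨Nat.prime_two⟩
  let T := (D.S : Subgroup G).comap π
  have central : ∀ z : L, π z = 1 → ∀ x : L, x * z = z * x := fun z hz x =>
    Subgroup.mem_center_iff.1 (hZ (MonoidHom.mem_ker.2 hz)) x
  -- every lift of t centralises every lift of an element of V
  have step1 : ∀ T0 A : L, π T0 = t → π A ∈ D.V → T0 * A = A * T0 := by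
    intro T0 A hT0 hA
    have tcom : ∀ B : L, π B ∈ D.V → π ⁅T0, B⁆ = 1 := fun B hB => by
      rw [map_commutatorElement, hT0, commutatorElement_eq_one_iff_mul_comm]
      exact (Subgroup.mem_centralizer_singleton_iff.1 (D.hSC (D.hVS hB))).symm
    have hmul : ∀ B B' : L, π B ∈ D.V → π B' ∈ D.V → ⁅T0, B * B'⁆ = ⁅T0, B⁆ * ⁅T0, B'⁆ := by
      intro B B' hB hB'
      calc ⁅T0, B * B'⁆ = ⁅T0, B⁆ * (B * ⁅T0, B'⁆ * B⁻¹) := by simp only [commutatorElement_def]; group
        _ = ⁅T0, B⁆ * ⁅T0, B'⁆ := by rw [central _ (tcom B' hB') B, mul_inv_cancel_right]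
    obtain ⟨u, hu, hvu⟩ := D.rsurj hA
    obtain ⟨U, rfl⟩ := hπ u
    obtain ⟨R, hR⟩ := hπ D.r
    have hRt : π (T0⁻¹ * (R⁻¹ * T0 * R)) = 1 := by
      have h := Subgroup.mem_centralizer_singleton_iff.1 (D.hN D.hrN)
      simp only [map_mul, map_inv, hT0, hR]
      rw [mul_assoc D.r⁻¹, ← h]; group
    have hRU : π (R * U * R⁻¹) ∈ D.V := by
      simp only [map_mul, map_inv, hR]; exact D.hrV _ hu
    have hinv : ⁅T0, R * U * R⁻¹⁆ = ⁅T0, U⁆ := by
      obtain ⟨z, hz, he⟩ : ∃ z, π z = 1 ∧ R⁻¹ * T0 * R = T0 * z := ⟨_, hRt, by group⟩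
      have h1 : ⁅T0, R * U * R⁻¹⁆ = R * ⁅R⁻¹ * T0 * R, U⁆ * R⁻¹ := by simp only [commutatorElement_def]; group
      have h2 : ⁅T0 * z, U⁆ = ⁅T0, U⁆ := by
        simp only [commutatorElement_def]
        calc T0 * z * U * (T0 * z)⁻¹ * U⁻¹ = T0 * (z * U) * z⁻¹ * T0⁻¹ * U⁻¹ := by group
          _ = T0 * (U * z) * z⁻¹ * T0⁻¹ * U⁻¹ := by rw [central z hz U]
          _ = T0 * U * T0⁻¹ * U⁻¹ := by group
      rw [h1, he, h2, central _ (tcom U hu) R, mul_inv_cancel_right]
    have hA' : ⁅T0, A⁆ = 1 := by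
      have hU' : π U⁻¹ ∈ D.V := by rw [map_inv]; exact inv_mem hu
      have hz : π ((U⁻¹ * (R * U * R⁻¹))⁻¹ * A) = 1 := by
        simp only [map_mul, map_inv, hR]; rw [hvu]; group
      obtain ⟨z, hz', he⟩ : ∃ z, π z = 1 ∧ A = U⁻¹ * (R * U * R⁻¹) * z := ⟨_, hz, by group⟩
      have hz1 : ⁅T0, z⁆ = 1 := commutatorElement_eq_one_iff_mul_comm.2 (central z hz' T0)
      rw [he, hmul _ _ (by rw [map_mul]; exact mul_mem hU' hRU) (by rw [hz']; exact one_mem _), hz1, mul_one,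
        hmul _ _ hU' hRU, hinv, ← hmul _ _ hU' hu, inv_mul_cancel]
      simp
    exact commutatorElement_eq_one_iff_mul_comm.1 hA'
  let K : Subgroup L := T ⊓ Subgroup.centralizer (T : Set L)
  have hKker : π.ker ≤ K := fun z hz => ⟨by
    show π z ∈ (D.S : Subgroup G)
    rw [MonoidHom.mem_ker.1 hz]; exact one_mem _, Subgroup.mem_centralizer_iff.2 fun x _ =>
      central z (MonoidHom.mem_ker.1 hz) x⟩
  have htK : t ∈ K.map π := by
    obtain ⟨T0, hT0⟩ := hπ t
    refine ⟨T0, ⟨by show π T0 ∈ (D.S : Subgroup G); rw [hT0]; exact D.htS, ?_⟩, hT0⟩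
    refine Subgroup.mem_centralizer_iff.2 ?_
    intro x hx
    obtain ⟨v, hv, a, ha, hva⟩ := D.dec (π x) hx
    obtain ⟨A, rfl⟩ := hπ v
    obtain ⟨i, rfl⟩ := Subgroup.mem_zpowers_iff.1 ha
    have hz : π ((A * T0 ^ i)⁻¹ * x) = 1 := by simp [hT0, hva]
    have h1 : Commute T0 A := step1 T0 A hT0 hv
    have h3 : Commute T0 ((A * T0 ^ i)⁻¹ * x) := central _ hz T0
    have h := (h1.mul_right ((Commute.refl T0).zpow_right i)).mul_right h3
    rw [mul_inv_cancel_left] at h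
    exact h.eq.symm
  have hinvK : ∀ y ∈ Subgroup.normalizer ((D.S : Subgroup G) : Set G), ∀ p ∈ K.map π, y * p * y⁻¹ ∈ K.map π := by
    rintro y hy _ ⟨k, hk, rfl⟩
    obtain ⟨Y, rfl⟩ := hπ y
    refine ⟨Y * k * Y⁻¹, ⟨?_, ?_⟩, by simp⟩
    · show π (Y * k * Y⁻¹) ∈ (D.S : Subgroup G)
      rw [map_mul, map_mul, map_inv]
      exact (Subgroup.mem_normalizer_iff.1 hy _).1 hk.1
    · refine Subgroup.mem_centralizer_iff.2 ?_
      intro x hx
      have hx' : Y⁻¹ * x * Y ∈ T := by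
        show π (Y⁻¹ * x * Y) ∈ (D.S : Subgroup G)
        rw [map_mul, map_mul, map_inv]
        exact (Subgroup.mem_normalizer_iff''.1 hy _).1 hx
      have h := Subgroup.mem_centralizer_iff.1 hk.2 _ hx'
      calc x * (Y * k * Y⁻¹) = Y * ((Y⁻¹ * x * Y) * k) * Y⁻¹ := by group
        _ = Y * k * Y⁻¹ * x := by rw [h]; group
  obtain ⟨y, hy, hyt⟩ := exists_normalizer_move hna D.S (hab D.S) D.htS ht
  have ht' := hinvK y hy t htK
  have ht'S : y * t * y⁻¹ ∈ (D.S : Subgroup G) := (Subgroup.mem_normalizer_iff.1 hy t).1 D.htS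
  obtain ⟨w, hw, a, ha, hwa⟩ := D.dec _ ht'S
  have hwK : w ∈ K.map π := by
    have : w = (y * t * y⁻¹) * a⁻¹ := by rw [hwa, mul_inv_cancel_right]
    rw [this]
    exact mul_mem ht' (inv_mem (Subgroup.zpowers_le.2 htK ha))
  have hw1 : w ≠ 1 := by
    rintro rfl
    rw [one_mul] at hwa
    rcases D.tsq ha with h | h
    · rw [h, conj_eq_one_iff] at hwa
      rw [hwa, orderOf_one] at ht; omega
    · exact hyt (hwa.trans h)
  have hwK' := hinvK D.r D.hrS w hwK
  have hne : w ≠ D.r * w * D.r⁻¹ := fun h => hw1 (D.hrfix w hw h.symm)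
  have hw1' : D.r * w * D.r⁻¹ ≠ 1 := fun h => hw1 (conj_eq_one_iff.1 h)
  have hSK : (D.S : Subgroup G) ≤ K.map π := by
    intro s hs
    obtain ⟨v, hv, b, hb, rfl⟩ := D.dec s hs
    refine mul_mem ?_ (Subgroup.zpowers_le.2 htK hb)
    rcases four_cases D.card_V (fun u hu => D.hS2 u (D.hVS hu)) hw (D.hrV w hw) hw1 hw1' hne hv with h | h | h | h <;>
      rw [h]
    · exact one_mem _
    · exact hwK
    · exact hwK'
    · exact mul_mem hwK hwK'
  have hT : T ≤ K := by
    intro x hx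
    obtain ⟨k, hk, hkx⟩ := hSK hx
    have : x = k * (k⁻¹ * x) := by group
    rw [this]
    exact mul_mem hk (hKker (MonoidHom.mem_ker.2 (by rw [map_mul, map_inv, hkx, inv_mul_cancel])))
  refine eq_bot_of_abelian_preimage hL π.ker hZ hZ2 T
    ⟨⟨fun a b => Subtype.ext (Subgroup.mem_centralizer_iff.1 (hT b.2).2 a a.2)⟩⟩ ?_
  rw [Subgroup.index_comap_of_surjective _ hπ]
  exact D.S.not_dvd_index

/-- Every automorphism of 2-power order fixing `D.S` pointwise is inner. -/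
theorem Setup.aut_inner (hna : ¬ IsMulCommutative G) (hab : ∀ S : Sylow 2 G, IsMulCommutative (S : Subgroup G))
    {t : G} (ht : orderOf t = 2) (hmax : IsCoatom (Subgroup.centralizer ({t} : Set G))) (D : Setup t)
    (ψ : MulAut G) {k : ℕ} (hk : ψ ^ 2 ^ k = 1) (hfix : ∀ s ∈ (D.S : Subgroup G), ψ s = s) :
    ∃ g : G, ψ = MulAut.conj g := by
  classical
  haveI : Fact (Nat.Prime 2) := ⟨Nat.prime_two⟩
  haveI := D.simple
  set C := Subgroup.centralizer ({t} : Set G) with hC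
  have hψt := hfix t D.htS
  have hψC : ∀ c ∈ C, ψ c ∈ C := fun c hc => by
    rw [hC, Subgroup.mem_centralizer_singleton_iff] at hc ⊢
    conv_lhs => rw [← hψt, ← map_mul, hc, map_mul, hψt]
  have hcomm : ∀ a ∈ (D.S : Subgroup G), ∀ b ∈ (D.S : Subgroup G), a * b = b * a := fun a ha b hb =>
    congrArg Subtype.val ((hab D.S).is_comm.comm (⟨a, ha⟩ : (D.S : Subgroup G)) ⟨b, hb⟩)
  -- ψ leaves N invariant
  have hmapC : D.N.map (ψ : G →* G) ≤ C := by
    rintro _ ⟨x, hx, rfl⟩; exact hψC x (D.hN hx)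
  have hNimg : D.N.map (ψ : G →* G) = D.N := by
    have hNnorm : D.N.map (ψ : G →* G) ≤ Subgroup.normalizer (D.N : Set G) := hmapC.trans D.hnorm
    have hn2 : D.N ≤ Subgroup.normalizer ((D.N.map (ψ : G →* G) : Subgroup G) : Set G) := by
      intro x hx
      have hxC : ψ⁻¹ x ∈ C := by
        rw [hC, Subgroup.mem_centralizer_singleton_iff]
        refine ψ.injective ?_
        rw [map_mul, map_mul, MulAut.apply_inv_self, hψt]
        exact Subgroup.mem_centralizer_singleton_iff.1 (D.hN hx)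
      have h := Subgroup.le_normalizer_map (ψ : G →* G) (Subgroup.mem_map_of_mem (ψ : G →* G) (D.hnorm hxC))
      simpa [MulAut.apply_inv_self] using h
    let M := (D.N.map (ψ : G →* G)).subgroupOf D.N
    haveI : M.Normal := Subgroup.normal_subgroupOf_of_le_normalizer hn2
    rcases (inferInstance : M.Normal).eq_bot_or_eq_top with hM | hM
    · exfalso
      have hdis := Subgroup.subgroupOf_eq_bot.1 hM
      rw [disjoint_comm, disjoint_iff] at hdis
      have hcent : ∀ y ∈ D.N.map (ψ : G →* G), y ∈ Subgroup.zpowers t := by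
        intro y hy
        refine D.hcent y (hmapC hy) fun x hx => ?_
        have h1 : y * x * y⁻¹ * x⁻¹ ∈ D.N :=
          mul_mem ((Subgroup.mem_normalizer_iff.1 (hNnorm hy) x).1 hx) (inv_mem hx)
        have h2 : y * x * y⁻¹ * x⁻¹ ∈ D.N.map (ψ : G →* G) := by
          rw [show y * x * y⁻¹ * x⁻¹ = y * (x * y⁻¹ * x⁻¹) by group]
          exact mul_mem hy ((Subgroup.mem_normalizer_iff.1 (hn2 hx) y⁻¹).1 (inv_mem hy))
        have h3 : y * x * y⁻¹ * x⁻¹ = 1 := Subgroup.mem_bot.1 (hdis ▸ ⟨h1, h2⟩)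
        calc y * x = (y * x * y⁻¹ * x⁻¹) * (x * y) := by group
          _ = x * y := by rw [h3, one_mul]
      have h1 := Subgroup.card_le_of_le (show D.N.map (ψ : G →* G) ≤ Subgroup.zpowers t from hcent)
      rw [Nat.card_zpowers, ht, Subgroup.card_map_of_injective ψ.injective] at h1
      have h2 : Nat.card D.V ≤ Nat.card D.N := Subgroup.card_le_of_le D.hVN
      rw [D.card_V] at h2
      omega
    · exact (Subgroup.eq_of_le_of_card_ge (Subgroup.subgroupOf_eq_top.1 hM)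
        (by rw [Subgroup.card_map_of_injective ψ.injective])).symm
  -- the restriction to N
  let β : MulAut D.N := (ψ.subgroupMap D.N).trans (MulEquiv.subgroupCongr hNimg)
  have hβ : ∀ (n : ℕ) (x : D.N), ((β ^ n) x : G) = (ψ ^ n) (x : G) := by
    intro n
    induction n with
    | zero => intro x; rfl
    | succ n ih =>
      intro x
      rw [pow_succ, pow_succ, MulAut.mul_apply, MulAut.mul_apply, ih]
      rfl
  obtain ⟨v, hv, hβv⟩ := D.haut β ⟨k, MulEquiv.ext fun x => Subtype.ext (by rw [hβ, hk]; rfl)⟩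
    (fun x hx => Subtype.ext (hfix x (D.hVS hx)))
  have hvS := D.hVS hv
  set χ : MulAut G := MulAut.conj (v : G)⁻¹ * ψ with hχdef
  have hχ : ∀ x, χ x = (v : G)⁻¹ * ψ x * v := fun x => by
    rw [hχdef, MulAut.mul_apply, MulAut.conj_apply, inv_inv]
  have hχS : ∀ s ∈ (D.S : Subgroup G), χ s = s := fun s hs => by
    rw [hχ, hfix s hs, mul_assoc, hcomm s hs _ hvS, inv_mul_cancel_left]
  have hχN : ∀ x ∈ D.N, χ x = x := fun x hx => by
    have h := congrArg Subtype.val (DFunLike.congr_fun hβv ⟨x, hx⟩)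
    change ψ x = (v : G) * x * (v : G)⁻¹ at h
    rw [hχ, h]; group
  have hχC' : ∀ c ∈ C, χ c ∈ C := fun c hc => by
    rw [hχ]; exact mul_mem (mul_mem (inv_mem (D.hSC hvS)) (hψC c hc)) (D.hSC hvS)
  have htcomm : ∀ a ∈ Subgroup.zpowers t, ∀ c ∈ C, a * c = c * a := by
    intro a ha c hc
    rcases D.tsq ha with h | h <;> rw [h]
    · rw [one_mul, mul_one]
    · exact (Subgroup.mem_centralizer_singleton_iff.1 hc).symm
  -- χ fixes C
  have hd : ∀ c ∈ C, c⁻¹ * χ c ∈ Subgroup.zpowers t := by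
    intro c hc
    refine D.hcent _ (mul_mem (inv_mem hc) (hχC' c hc)) fun x hx => ?_
    have hcx : c * x * c⁻¹ ∈ D.N := (Subgroup.mem_normalizer_iff.1 (D.hnorm hc) x).1 hx
    have h := hχN _ hcx
    rw [map_mul, map_mul, map_inv, hχN x hx] at h
    calc c⁻¹ * χ c * x = c⁻¹ * (χ c * x * (χ c)⁻¹) * χ c := by group
      _ = x * (c⁻¹ * χ c) := by rw [h]; group
  let δ : C →* Subgroup.zpowers t :=
    MonoidHom.mk' (fun c => ⟨(c : G)⁻¹ * χ c, hd c c.2⟩) (fun a b => Subtype.ext (by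
      show ((a * b : C) : G)⁻¹ * χ (a * b : C) = ((a : G)⁻¹ * χ a) * ((b : G)⁻¹ * χ b)
      rw [Subgroup.coe_mul, map_mul]
      calc ((a : G) * b)⁻¹ * (χ a * χ b) = (b : G)⁻¹ * ((a : G)⁻¹ * χ a) * χ b := by group
        _ = _ := by rw [← htcomm _ (hd a a.2) _ (inv_mem b.2)]; group))
  have hχC : ∀ c ∈ C, χ c = c := by
    have hker : (D.S : Subgroup G).subgroupOf C ≤ δ.ker := fun c hc => MonoidHom.mem_ker.2 (Subtype.ext (by
      show (c : G)⁻¹ * χ c = 1
      rw [hχS (c : G) hc, inv_mul_cancel]))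
    have h1 : δ.ker.index ∣ (D.S : Subgroup G).index :=
      (Subgroup.index_dvd_of_le hker).trans ⟨_, (Subgroup.relIndex_mul_index D.hSC).symm⟩
    have h2 : δ.ker.index ∣ 2 := by
      rw [Subgroup.index_ker, ← ht, ← Nat.card_zpowers]
      exact Subgroup.card_subgroup_dvd_card _
    have h3 : δ.ker = ⊤ := Subgroup.index_eq_one.1 (by
      rcases (Nat.dvd_prime Nat.prime_two).1 h2 with h | h
      · exact h
      · rw [h] at h1; exact absurd h1 D.S.not_dvd_index)
    intro c hc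
    have h : δ ⟨c, hc⟩ = 1 := MonoidHom.mem_ker.1 (h3 ▸ Subgroup.mem_top _)
    exact (inv_mul_eq_one.1 (congrArg Subtype.val h)).symm
  -- χ has 2-power order
  have hχk : χ ^ 2 ^ (k + 1) = 1 := by
    have hco : Commute (MulAut.conj (v : G)⁻¹) ψ := MulEquiv.ext fun x => by
      show (v : G)⁻¹ * ψ x * (v : G)⁻¹⁻¹ = ψ ((v : G)⁻¹ * x * (v : G)⁻¹⁻¹)
      simp only [map_mul, map_inv, inv_inv, hfix _ hvS]
    rw [hχdef, hco.mul_pow, ← map_pow, pow_succ', pow_mul, pow_mul ψ, pow_two, ← _root_.mul_inv_rev,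
      D.hS2 _ hvS, inv_one, one_pow, map_one, one_mul, ← pow_mul, mul_comm, pow_mul, hk, one_pow]
  -- the cocycle on N(S)
  set P := Subgroup.normalizer ((D.S : Subgroup G) : Set G) with hP
  have hcS : ∀ y ∈ P, y⁻¹ * χ y ∈ (D.S : Subgroup G) := by
    intro y hy
    have hcen : ∀ s ∈ (D.S : Subgroup G), (y⁻¹ * χ y) * s = s * (y⁻¹ * χ y) := by
      intro s hs
      have h := hχS _ ((Subgroup.mem_normalizer_iff.1 hy s).1 hs)
      rw [map_mul, map_mul, map_inv, hχS s hs] at h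
      calc y⁻¹ * χ y * s = y⁻¹ * (χ y * s * (χ y)⁻¹) * χ y := by group
        _ = s * (y⁻¹ * χ y) := by rw [h]; group
    have hfx : χ (y⁻¹ * χ y) = y⁻¹ * χ y := hχC _ (by
      rw [hC, Subgroup.mem_centralizer_singleton_iff]; exact hcen t D.htS)
    have hiter : ∀ n : ℕ, (χ ^ n) y = y * (y⁻¹ * χ y) ^ n := by
      intro n
      induction n with
      | zero => rw [pow_zero, pow_zero, mul_one]; rfl
      | succ n ih =>
        rw [pow_succ', MulAut.mul_apply, ih, map_mul, map_pow, hfx, pow_succ', ← mul_assoc, mul_inv_cancel_left]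
    refine mem_sylow_of_normalizes D.S (k := k + 1)
      (Subgroup.centralizer_le_normalizer _ (Subgroup.mem_centralizer_iff.2 fun s hs => (hcen s hs).symm)) ?_
    have h := hiter (2 ^ (k + 1))
    rw [hχk] at h
    exact mul_eq_left.1 h.symm
  haveI := hab D.S
  letI : CommGroup (D.S : Subgroup G) := open scoped IsMulCommutative in inferInstance
  let cc : P → (D.S : Subgroup G) := fun y => ⟨(y : G)⁻¹ * χ y, hcS y y.2⟩
  let act : P → (D.S : Subgroup G) →* (D.S : Subgroup G) := fun y =>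
    MonoidHom.mk' (fun s => ⟨(y : G)⁻¹ * s * y, (Subgroup.mem_normalizer_iff''.1 y.2 s).1 s.2⟩)
      (fun a b => Subtype.ext (by simp [mul_assoc]))
  have hcoc : ∀ x y : P, cc (x * y) = act y (cc x) * cc y := fun x y => Subtype.ext (by
    show ((x : G) * y)⁻¹ * χ ((x : G) * y) = ((y : G)⁻¹ * ((x : G)⁻¹ * χ x) * y) * ((y : G)⁻¹ * χ y)
    rw [map_mul]; group)
  let Q := P ⧸ (D.S : Subgroup G).subgroupOf P
  haveI : ((D.S : Subgroup G).subgroupOf P).Normal := Subgroup.normal_subgroupOf_of_le_normalizer le_rfl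
  haveI : Fintype Q := Fintype.ofFinite Q
  have hcl : ∀ x x' : P, (QuotientGroup.mk x : Q) = QuotientGroup.mk x' → cc x = cc x' := by
    intro x x' he
    have hs : ((x⁻¹ * x' : P) : G) ∈ (D.S : Subgroup G) := (QuotientGroup.eq.1 he : x⁻¹ * x' ∈ (D.S : Subgroup G).subgroupOf P)
    have hx' : x' = x * (x⁻¹ * x') := by group
    refine Subtype.ext ?_
    show (x : G)⁻¹ * χ x = (x' : G)⁻¹ * χ x'
    rw [hx', Subgroup.coe_mul, map_mul, hχS _ hs, _root_.mul_inv_rev, mul_assoc, ← mul_assoc (x : G)⁻¹,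
      ← hcomm _ hs _ (hcS x x.2), inv_mul_cancel_left]
  let σ : (D.S : Subgroup G) := ∏ q : Q, cc q.out
  have hsum : ∀ y : P, σ = act y σ * cc y := by
    intro y
    have h1 : ∏ q : Q, cc (q.out * y) = σ := by
      refine Fintype.prod_equiv (Equiv.mulRight (QuotientGroup.mk y : Q)) _ _ fun q => hcl _ _ ?_
      rw [Equiv.coe_mulRight, QuotientGroup.out_eq', QuotientGroup.mk_mul, QuotientGroup.out_eq']
    conv_lhs => rw [← h1, Finset.prod_congr rfl (fun q _ => hcoc q.out y), Finset.prod_mul_distrib,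
      ← map_prod, Finset.prod_const]
    congr 1
    have hodd : Odd (Fintype.card Q) := by
      rw [← Nat.not_even_iff_odd, even_iff_two_dvd, ← Nat.card_eq_fintype_card]
      intro h
      exact D.S.not_dvd_index (h.trans ⟨_, (Subgroup.relIndex_mul_index Subgroup.le_normalizer).symm⟩)
    obtain ⟨m, hm⟩ := hodd
    rw [Finset.card_univ, hm, pow_succ, pow_mul, pow_two,
      show cc y * cc y = 1 from Subtype.ext (D.hS2 _ (cc y).2), one_pow, one_mul]
  have hσt : (σ : G) ∈ Subgroup.zpowers t := by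
    obtain ⟨u, hu, b, hb, hub⟩ := D.dec _ σ.2
    have h := congrArg Subtype.val (hsum ⟨D.r, D.hrS⟩)
    simp only [Subgroup.coe_mul] at h
    change (σ : G) = D.r⁻¹ * σ * D.r * (D.r⁻¹ * χ D.r) at h
    rw [hχN _ D.hrN, inv_mul_cancel, mul_one, hub] at h
    have hbr := htcomm b hb D.r (D.hN D.hrN)
    have hu1 : D.r * u * D.r⁻¹ = u := by
      have h' : u * b = D.r⁻¹ * u * D.r * b := by rw [h]; rw [mul_assoc _ D.r b, ← hbr]; group
      conv_lhs => rw [mul_right_cancel h']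
      group
    rw [hub, D.hrfix u hu hu1, one_mul]
    exact hb
  have hσ2 : (σ : G) * σ = 1 := D.hS2 _ σ.2
  have hσinv : (σ : G)⁻¹ = σ := inv_eq_of_mul_eq_one_right hσ2
  have hall : ∀ x : G, χ x = (σ : G) * x * σ := by
    let K := (MulAut.conj (σ : G) * χ).toMonoidHom.eqLocus (MonoidHom.id G)
    have hKC : C ≤ K := fun c hc => by
      show (σ : G) * χ c * (σ : G)⁻¹ = c
      rw [hχC c hc, htcomm _ hσt c hc, mul_inv_cancel_right]
    have hKP : P ≤ K := fun y hy => by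
      show (σ : G) * χ y * (σ : G)⁻¹ = y
      have h := congrArg Subtype.val (hsum ⟨y, hy⟩)
      change (σ : G) = y⁻¹ * σ * y * (y⁻¹ * χ y) at h
      have h' : χ y = (σ : G)⁻¹ * y * σ := by
        calc χ y = (σ : G)⁻¹ * y * (y⁻¹ * σ * y * (y⁻¹ * χ y)) := by group
          _ = (σ : G)⁻¹ * y * σ := by rw [← h]
      rw [h']; group
    obtain ⟨y, hy, hyt⟩ := exists_normalizer_move hna D.S (hab D.S) D.htS ht
    have htop : K = ⊤ := hmax.2 K (lt_of_le_of_ne hKC fun he => hyt (by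
      have := hKP hy
      rw [← he, hC, Subgroup.mem_centralizer_singleton_iff] at this
      rw [this, mul_inv_cancel_right]))
    intro x
    have hx : (σ : G) * χ x * (σ : G)⁻¹ = x := (htop ▸ Subgroup.mem_top x : x ∈ K)
    conv_rhs => rw [← hx]
    rw [hσinv, ← mul_assoc, ← mul_assoc, hσ2, one_mul, mul_assoc, hσ2, mul_one]
  refine ⟨(v : G) * σ, MulEquiv.ext fun x => ?_⟩
  have h := hall x
  rw [hχ] at h
  rw [MulAut.conj_apply, _root_.mul_inv_rev, hσinv]
  calc ψ x = (v : G) * ((v : G)⁻¹ * ψ x * v) * (v : G)⁻¹ := by group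
    _ = (v : G) * σ * x * (σ * (v : G)⁻¹) := by rw [h]; group

end Cfsg.Agent.JankoRee
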